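import Groth.Agent.EtCdLocalLib.Main
import Groth.Agent.TensorBranchLib.SHQuot
import Groth.Agent.LocAcycBCLib.Main
import Groth.Agent.CycDivLib.Ord

/-!
# Fields of strictly local rings over a generization
-/

set_option autoImplicit false
set_option linter.all false
set_option backward.isDefEq.respectTransparency false
set_option backward.isDefEq.respectTransparency.types false
set_option synthInstance.maxHeartbeats 400000
set_option maxHeartbeats 1000000

universe u

open CategoryTheory CategoryTheory.Limits AlgebraicGeometry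

noncomputable section

namespace EtCdLocalLib

/-- A quotient of a local ring of a ring is a local ring of the quotient. -/
theorem exists_quotient_equiv {S : Type u} [CommRing S] (m I : Ideal S) [m.IsPrime] (hI : I ≤ m)
    [(m.map (Ideal.Quotient.mk I)).IsPrime] (A : Type u) [CommRing A] [Algebra S A] [IsLocalization.AtPrime A m] :
    Nonempty (Localization.AtPrime (m.map (Ideal.Quotient.mk I)) ≃+* A ⧸ I.map (algebraMap S A)) := by
  let n := m.map (Ideal.Quotient.mk I)
  have hn : ∀ a, Ideal.Quotient.mk I a ∈ n ↔ a ∈ m := fun a => by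
    rw [← Ideal.mem_comap, Ideal.comap_map_of_surjective _ Ideal.Quotient.mk_surjective, ← RingHom.ker_eq_comap_bot,
      Ideal.mk_ker, sup_eq_left.mpr hI]
  let J := I.map (algebraMap S A)
  let q : S →+* A ⧸ J := (Ideal.Quotient.mk J).comp (algebraMap S A)
  let q' : (S ⧸ I) →+* A ⧸ J := Ideal.Quotient.lift I q fun a ha =>
    Ideal.Quotient.eq_zero_iff_mem.2 (Ideal.mem_map_of_mem _ ha)
  have hu : ∀ a : n.primeCompl, IsUnit (q' a) := fun ⟨a, ha⟩ => by
    obtain ⟨a, rfl⟩ := Ideal.Quotient.mk_surjective a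
    exact (IsLocalization.map_units A (⟨a, fun h => ha ((hn a).2 h)⟩ : m.primeCompl)).map (Ideal.Quotient.mk J)
  let g : Localization.AtPrime n →+* A ⧸ J := IsLocalization.lift hu
  let r : S →+* Localization.AtPrime n := (algebraMap (S ⧸ I) _).comp (Ideal.Quotient.mk I)
  have hu' : ∀ a : m.primeCompl, IsUnit (r a) := fun a =>
    IsLocalization.map_units (Localization.AtPrime n) (⟨Ideal.Quotient.mk I a, fun h => a.2 ((hn a).1 h)⟩ : n.primeCompl)
  let h₀ : A →+* Localization.AtPrime n := IsLocalization.lift hu'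
  let h : A ⧸ J →+* Localization.AtPrime n := Ideal.Quotient.lift J h₀ fun a ha => by
    refine (Ideal.map_le_iff_le_comap.2 fun s hs => ?_ : J ≤ RingHom.ker h₀) ha
    rw [Ideal.mem_comap, RingHom.mem_ker]
    show IsLocalization.lift hu' (algebraMap S A s) = 0
    rw [IsLocalization.lift_eq]
    show algebraMap (S ⧸ I) _ (Ideal.Quotient.mk I s) = 0
    rw [Ideal.Quotient.eq_zero_iff_mem.2 hs, map_zero]
  refine ⟨RingEquiv.ofRingHom g h ?_ ?_⟩
  · refine Ideal.Quotient.ringHom_ext (IsLocalization.ringHom_ext m.primeCompl (RingHom.ext fun s => ?_))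
    show g (IsLocalization.lift hu' (algebraMap S A s)) = Ideal.Quotient.mk J (algebraMap S A s)
    rw [IsLocalization.lift_eq]
    show IsLocalization.lift hu (algebraMap (S ⧸ I) _ (Ideal.Quotient.mk I s)) = _
    rw [IsLocalization.lift_eq]
    rfl
  · refine IsLocalization.ringHom_ext n.primeCompl (Ideal.Quotient.ringHom_ext (RingHom.ext fun s => ?_))
    show h (IsLocalization.lift hu (algebraMap (S ⧸ I) _ (Ideal.Quotient.mk I s))) =
      algebraMap (S ⧸ I) _ (Ideal.Quotient.mk I s)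
    rw [IsLocalization.lift_eq]
    show IsLocalization.lift hu' (algebraMap S A s) = _
    rw [IsLocalization.lift_eq]
    rfl

/-- The fields of the strictly local rings over a closed subscheme. -/
theorem cohDimLEAt_frac_of_le {l : ℕ} (hl : l.Prime) (hFB : FieldBound.{u} l) (k : Type u) [Field k] {X : Scheme.{u}}
    (f : X ⟶ Spec (CommRingCat.of k)) [LocallyOfFiniteType f] [QuasiCompact f] (y : X)
    (R : Type u) [CommRing R] [IsLocalRing R] [Algebra (X.presheaf.stalk y) R]
    [IsLocalHom (algebraMap (X.presheaf.stalk y) R)] [Hensel.IsStrictHenselization (X.presheaf.stalk y) R]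
    (I₀ : Ideal (X.presheaf.stalk y)) (hI₀ : I₀ ≠ ⊤) (d : ℕ) (hd : ringKrullDim (X.presheaf.stalk y ⧸ I₀) ≤ d)
    (P : Ideal R) [P.IsPrime] (hP : I₀.map (algebraMap (X.presheaf.stalk y) R) ≤ P) :
    Dix.CohDimLEAt (Spec (CommRingCat.of (FractionRing (R ⧸ P)))) l d := by
  obtain ⟨_, ⟨U, hU, rfl⟩, hxU, -⟩ :=
    X.isBasis_affineOpens.exists_subset_of_mem_open (Set.mem_univ y) isOpen_univ
  have hU : IsAffineOpen U := hU
  obtain ⟨φ, hφ⟩ : ∃ φ : CommRingCat.of k ⟶ Γ(X, U), Spec.map φ = hU.fromSpec ≫ f := Spec.map_surjective _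
  let m := (hU.primeIdealOf ⟨y, hxU⟩).asIdeal
  letI := X.presheaf.algebra_section_stalk ⟨y, hxU⟩
  haveI : IsLocalization.AtPrime (X.presheaf.stalk y) m := hU.isLocalization_stalk ⟨y, hxU⟩
  let S : Type u := Γ(X, U)
  let I : Ideal S := I₀.comap (algebraMap S (X.presheaf.stalk y))
  have hIA : I.map (algebraMap S (X.presheaf.stalk y)) = I₀ := IsLocalization.map_comap m.primeCompl _ I₀
  have hIm : I ≤ m := fun a ha => by
    by_contra h
    exact hI₀ (Ideal.eq_top_of_isUnit_mem _ ha (IsLocalization.map_units (X.presheaf.stalk y) (⟨a, h⟩ : m.primeCompl)))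
  haveI hn : (m.map (Ideal.Quotient.mk I)).IsPrime :=
    Ideal.map_isPrime_of_surjective Ideal.Quotient.mk_surjective (by rw [Ideal.mk_ker]; exact hIm)
  let Z : Scheme.{u} := Spec (CommRingCat.of (S ⧸ I))
  let z : Z := (⟨m.map (Ideal.Quotient.mk I), hn⟩ : PrimeSpectrum (S ⧸ I))
  let fZ : Z ⟶ Spec (CommRingCat.of k) := Spec.map (φ ≫ CommRingCat.ofHom (Ideal.Quotient.mk I))
  haveI : LocallyOfFiniteType fZ := (HasRingHomProperty.Spec_iff (P := @LocallyOfFiniteType)).2 (by
    exact (RingHom.FiniteType.of_surjective _ Ideal.Quotient.mk_surjective).comp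
      ((HasRingHomProperty.Spec_iff (P := @LocallyOfFiniteType)).1
        (hφ ▸ (inferInstance : LocallyOfFiniteType (hU.fromSpec ≫ f)))))
  haveI : QuasiCompact fZ := inferInstance
  let A := X.presheaf.stalk y
  let J := I₀.map (algebraMap A R)
  have hJ : J ≠ ⊤ := ne_top_of_le_ne_top (inferInstance : P.IsPrime).ne_top hP
  haveI : Nontrivial (A ⧸ I₀) := Ideal.Quotient.nontrivial_iff.2 hI₀
  haveI : Nontrivial (R ⧸ J) := Ideal.Quotient.nontrivial_iff.2 hJ
  haveI : IsLocalRing (A ⧸ I₀) := IsLocalRing.of_surjective' _ Ideal.Quotient.mk_surjective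
  haveI : IsLocalRing (R ⧸ J) := IsLocalRing.of_surjective' _ Ideal.Quotient.mk_surjective
  haveI : IsLocalHom (algebraMap (A ⧸ I₀) (R ⧸ J)) := ⟨fun a ha => by
    obtain ⟨a, rfl⟩ := Ideal.Quotient.mk_surjective a
    haveI : IsLocalHom (Ideal.Quotient.mk J) := IsLocalHom.of_surjective _ Ideal.Quotient.mk_surjective
    have h1 : IsUnit (Ideal.Quotient.mk J (algebraMap A R a)) := ha
    exact ((IsUnit.of_map (algebraMap A R) a (IsUnit.of_map (Ideal.Quotient.mk J) _ h1)).map (Ideal.Quotient.mk I₀))⟩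
  haveI := TensorBranchLib.isStrictHenselization_quotient (A := A) (S := R) I₀
  obtain ⟨e₁⟩ := exists_quotient_equiv m I hIm A
  let e₂ : (A ⧸ I.map (algebraMap S A)) ≃+* (A ⧸ I₀) := Ideal.quotEquivOfEq hIA
  let e₀ : Z.presheaf.stalk z ≃+* Localization.AtPrime (m.map (Ideal.Quotient.mk I)) :=
    (Spec.stalkIso (CommRingCat.of (S ⧸ I)) z).commRingCatIsoToRingEquiv
  obtain ⟨_, _, _, -⟩ := LocAcycBCLib.exists_sh_of_equiv ((e₀.trans e₁).trans e₂) (R ⧸ J)
  have hd' : ringKrullDim (R ⧸ J) ≤ d := by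
    rw [Groth.Agent.S0541.result (A ⧸ I₀) (R ⧸ J)]
    exact hd
  haveI : (P.map (Ideal.Quotient.mk J)).IsPrime :=
    Ideal.map_isPrime_of_surjective Ideal.Quotient.mk_surjective (by rw [Ideal.mk_ker]; exact hP)
  have h := cohDimLEAt_frac hFB k fZ z (R ⧸ J) d hd' (P.map (Ideal.Quotient.mk J))
  let e : (R ⧸ J) ⧸ P.map (Ideal.Quotient.mk J) ≃+* R ⧸ P := DoubleQuot.quotQuotEquivQuotOfLE hP
  let ε : Spec (CommRingCat.of (FractionRing (R ⧸ P))) ≅
      Spec (CommRingCat.of (FractionRing ((R ⧸ J) ⧸ P.map (Ideal.Quotient.mk J)))) :=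
    Scheme.Spec.mapIso (IsFractionRing.ringEquivOfRingEquiv (K := FractionRing ((R ⧸ J) ⧸ P.map (Ideal.Quotient.mk J)))
      (L := FractionRing (R ⧸ P)) e).toCommRingCatIso.op
  intro G hG q hq
  have hG' : EtAcyc.IsLTorsion {l} G := fun U s x => by
    obtain ⟨V, g, hv, n, h0⟩ := hG U s x
    exact ⟨V, g, l ^ n, hv,
      ⟨pow_pos hl.pos n, fun p hp hd => (Nat.prime_dvd_prime_iff_eq hp hl).1 (hp.dvd_of_dvd_pow hd)⟩, h0⟩
  exact cohDimLEAt_of_isIso ε.hom h G hG' q hq

/-- The fields of the strictly local rings over a generization. -/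
theorem cohDimLEAt_frac_of_specializes {l : ℕ} (hl : l.Prime) (hFB : FieldBound.{u} l) (k : Type u) [Field k]
    {X : Scheme.{u}} (f : X ⟶ Spec (CommRingCat.of k)) [LocallyOfFiniteType f] [QuasiCompact f] {x y : X} (h : x ⤳ y)
    (R : Type u) [CommRing R] [IsLocalRing R] [Algebra (X.presheaf.stalk y) R]
    [IsLocalHom (algebraMap (X.presheaf.stalk y) R)] [Hensel.IsStrictHenselization (X.presheaf.stalk y) R]
    (d : ℕ) (hd : EquidimLib.dimBetween x y ≤ d) (P : Ideal R) [P.IsPrime]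
    (hP : (RingHom.ker (Cyc.specMap y x h)).map (algebraMap (X.presheaf.stalk y) R) ≤ P) :
    Dix.CohDimLEAt (Spec (CommRingCat.of (FractionRing (R ⧸ P)))) l d :=
  cohDimLEAt_frac_of_le hl hFB k f y R _ (RingHom.ker_ne_top _) d
    (by rw [CycDivLib.ker_specMap, CycDivLib.dim_quotient]; exact hd) P hP

end EtCdLocalLib
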