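import Groth.Agent.S0541
import Groth.Agent.FibDimLib.Formula
import Mathlib.RingTheory.Unramified.Finite
import Mathlib.RingTheory.AlgebraicIndependent.Transcendental

/-!
# Residue fields of strict henselizations of finite type algebras
-/

set_option autoImplicit false
set_option linter.all false
set_option backward.isDefEq.respectTransparency false
set_option backward.isDefEq.respectTransparency.types false
set_option synthInstance.maxHeartbeats 400000
set_option maxHeartbeats 1000000

universe u

open TensorProduct

noncomputable section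

namespace EtCdLocalLib

variable (k : Type u) [Field k] {S : Type u} [CommRing S] [Algebra k S] [Algebra.FiniteType k S]

include k in
/-- The dimension of an integral closed subscheme through a closed point. -/
theorem ringKrullDim_quotient_le (p m : Ideal S) [p.IsPrime] [m.IsMaximal] (h : p ≤ m) :
    ringKrullDim (S ⧸ p) ≤ (m.height : WithBot ℕ∞) := by
  have hmax : (m.map (Ideal.Quotient.mk p)).IsMaximal :=
    Ideal.IsMaximal.map_of_surjective_of_ker_le Ideal.Quotient.mk_surjective (by rwa [Ideal.mk_ker])
  haveI := hmax.isPrime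
  have h1 := FibDimLib.ringKrullDim_quotient_add_height_affine k (S ⧸ p) (m.map (Ideal.Quotient.mk p))
  letI := Ideal.Quotient.field (m.map (Ideal.Quotient.mk p))
  rw [ringKrullDim_eq_zero_of_field, zero_add] at h1
  rw [← h1]
  exact WithBot.coe_le_coe.2 (FibDimLib.height_map_quotient_le h)

/-- A field generated by the strict henselization at a closed point has transcendence degree at most the
dimension. -/
theorem trdeg_le' (m : Ideal S) [m.IsMaximal] (A : Type u) [CommRing A] [IsLocalRing A] [Algebra S A]
    [IsLocalization.AtPrime A m] (R : Type u) [CommRing R] [IsLocalRing R] [Algebra A R]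
    [IsLocalHom (algebraMap A R)] [Hensel.IsStrictHenselization A R] [Algebra k R] [Algebra S R]
    [IsScalarTower S A R] [IsScalarTower k S R]
    (d : ℕ) (hd : ringKrullDim R ≤ d) (P : Ideal R) [P.IsPrime] (F : Type u) [Field F] [Algebra k F]
    (π : R →+* F) (hker : RingHom.ker π = P) (hk : ∀ c : k, π (algebraMap k R c) = algebraMap k F c)
    (hdiv : ∀ z : F, ∃ a b : R, z = π a / π b) :
    Algebra.trdeg k F ≤ d := by
  have hπker : ∀ r, π r = 0 ↔ r ∈ P := fun r => by rw [← hker]; rfl
  let p : Ideal S := P.comap (algebraMap S R)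
  have hpm : p ≤ m := fun s hs => by
    by_contra hsm
    have hu : IsUnit (algebraMap S A s) := IsLocalization.map_units A (⟨s, hsm⟩ : m.primeCompl)
    have hu' := hu.map (algebraMap A R)
    rw [← IsScalarTower.algebraMap_apply S A R] at hu'
    exact (inferInstance : P.IsPrime).ne_top (Ideal.eq_top_of_isUnit_mem _ hs hu')
  obtain ⟨s, hs, htr⟩ := FibDimLib.ringKrullDim_quotient_eq_trdeg (k := k) p
  have hsd : s ≤ d := by
    have h1 := ringKrullDim_quotient_le k p m hpm
    rw [hs, ← IsLocalization.AtPrime.ringKrullDim_eq_height m A, ← Groth.Agent.S0541.result A R] at h1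
    exact_mod_cast h1.trans hd
  let L := p.ResidueField
  let σ : (S ⧸ p) →+* F := Ideal.Quotient.lift p (π.comp (algebraMap S R)) fun a ha => (hπker _).2 ha
  have hσ : Function.Injective σ := (injective_iff_map_eq_zero σ).2 fun a ha => by
    obtain ⟨a, rfl⟩ := Ideal.Quotient.mk_surjective a
    exact Ideal.Quotient.eq_zero_iff_mem.2 ((hπker _).1 ha)
  let ι : L →+* F := IsFractionRing.lift hσ
  letI : Algebra L F := ι.toAlgebra
  have hιS : ∀ a : S, ι (algebraMap S L a) = π (algebraMap S R a) := fun a => by
    rw [IsScalarTower.algebraMap_apply S (S ⧸ p) L]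
    exact IsFractionRing.lift_algebraMap hσ _
  haveI : IsScalarTower k L F := IsScalarTower.of_algebraMap_eq fun c => by
    show _ = ι (algebraMap k L c)
    rw [IsScalarTower.algebraMap_apply k S L, hιS, ← IsScalarTower.algebraMap_apply k S R, hk]
  have hLu : ∀ a : m.primeCompl, IsUnit (algebraMap S L (a : S)) := fun a => by
    refine IsUnit.mk0 _ fun h0 => a.2 (hpm ?_)
    exact Ideal.algebraMap_residueField_eq_zero.1 h0
  letI : Algebra A L := (IsLocalization.lift hLu : A →+* L).toAlgebra
  have hAS : ∀ a : S, algebraMap A L (algebraMap S A a) = algebraMap S L a := fun a => IsLocalization.lift_eq hLu a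
  have hAF : ι.comp (algebraMap A L) = π.comp (algebraMap A R) :=
    IsLocalization.ringHom_ext m.primeCompl (RingHom.ext fun a => by
      show ι (algebraMap A L (algebraMap S A a)) = π (algebraMap A R (algebraMap S A a))
      rw [hAS, hιS, ← IsScalarTower.algebraMap_apply S A R])
  have hint : ∀ r : R, IsIntegral L (π r) := fun r => by
    obtain ⟨e⟩ := HenselLib.nonempty_algEquiv_SH (R := A) R
    obtain ⟨U, _, _, _, ξ, hξ⟩ := HenselLib.etCov_of_algEquiv e (HenselLib.etCov_hens _) r
    obtain ⟨v, rfl⟩ := hξ
    haveI : Module.Finite L (L ⊗[A] U) := Algebra.FormallyUnramified.finite_of_free L (L ⊗[A] U)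
    letI : Algebra A F := (π.comp (algebraMap A R)).toAlgebra
    haveI : IsScalarTower A L F := IsScalarTower.of_algebraMap_eq fun a => (RingHom.congr_fun hAF a).symm
    let f : U →ₐ[A] F :=
      { toRingHom := π.comp ξ.toRingHom
        commutes' := fun a => congrArg π (ξ.commutes a) }
    let g : L ⊗[A] U →ₐ[L] F := Algebra.TensorProduct.lift (Algebra.ofId L F) f fun _ _ => Commute.all _ _
    have hg : g (1 ⊗ₜ v) = π (ξ v) := by
      rw [Algebra.TensorProduct.lift_tmul, map_one, one_mul]
      rfl
    rw [show π (ξ.toRingHom v) = g (1 ⊗ₜ v) from hg.symm]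
    exact (IsIntegral.of_finite L _).map g
  haveI : Algebra.IsAlgebraic L F := ⟨fun z => by
    obtain ⟨a, b, rfl⟩ := hdiv z
    rw [div_eq_mul_inv]
    exact (hint a).isAlgebraic.mul (hint b).isAlgebraic.inv⟩
  have h2 := trdeg_add_eq k L (A := F)
  rw [trdeg_eq_zero (R := L) (A := F), add_zero, htr] at h2
  exact h2.symm.le.trans (by exact_mod_cast hsd)

/-- The fraction field of a quotient of the strict henselization at a closed point has transcendence degree
at most the dimension. -/
theorem trdeg_le (m : Ideal S) [m.IsMaximal] (A : Type u) [CommRing A] [IsLocalRing A] [Algebra S A]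
    [IsLocalization.AtPrime A m] (R : Type u) [CommRing R] [IsLocalRing R] [Algebra A R]
    [IsLocalHom (algebraMap A R)] [Hensel.IsStrictHenselization A R] [Algebra k R] [Algebra S R]
    [IsScalarTower S A R] [IsScalarTower k S R]
    (d : ℕ) (hd : ringKrullDim R ≤ d) (P : Ideal R) [P.IsPrime] :
    Algebra.trdeg k (FractionRing (R ⧸ P)) ≤ d :=
  trdeg_le' k m A R d hd P _ ((algebraMap (R ⧸ P) (FractionRing (R ⧸ P))).comp (Ideal.Quotient.mk P))
    (by rw [RingHom.ker_comp_of_injective _ (IsFractionRing.injective _ _), Ideal.mk_ker])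
    (fun c => by rw [IsScalarTower.algebraMap_apply k (R ⧸ P) (FractionRing (R ⧸ P))]; rfl)
    fun z => by
      obtain ⟨a, b, -, rfl⟩ := IsFractionRing.div_surjective (A := R ⧸ P) z
      obtain ⟨a, rfl⟩ := Ideal.Quotient.mk_surjective a
      obtain ⟨b, rfl⟩ := Ideal.Quotient.mk_surjective b
      exact ⟨a, b, rfl⟩

end EtCdLocalLib
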