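import Groth.Agent.EtCdLocalLib.Alg
import Groth.Agent.EtCdLocalLib.Point
import Groth.Agent.S8539

/-!
# Cohomological dimension of the fields of strictly local rings of algebraic schemes
-/

set_option autoImplicit false
set_option linter.all false
set_option backward.isDefEq.respectTransparency false
set_option backward.isDefEq.respectTransparency.types false
set_option synthInstance.maxHeartbeats 400000
set_option maxHeartbeats 1000000

universe u

open CategoryTheory CategoryTheory.Limits AlgebraicGeometry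

noncomputable section

namespace EtCdLocalLib

/-- A field extension of transcendence degree at most `n` of a separably closed field has `l`-cohomological
dimension at most `n`. -/
def FieldBound (l : ℕ) : Prop :=
  ∀ (k K : Type u) [Field k] [IsSepClosed k] [Field K] [Algebra k K] (n : ℕ),
    Algebra.trdeg k K ≤ n → Dix.CohDimLEAt (Spec (CommRingCat.of K)) l n

/-- Closed points over a separably closed field. -/
theorem trdeg_le_of_isClosed (k : Type u) [Field k] {X : Scheme.{u}} (q : X ⟶ Spec (CommRingCat.of k))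
    [LocallyOfFiniteType q] (x : X) (hx : IsClosed ({x} : Set X)) (R : Type u) [CommRing R] [IsLocalRing R]
    [Algebra (X.presheaf.stalk x) R] [IsLocalHom (algebraMap (X.presheaf.stalk x) R)]
    [Hensel.IsStrictHenselization (X.presheaf.stalk x) R] (d : ℕ) (hd : ringKrullDim R ≤ d)
    (P : Ideal R) [P.IsPrime] :
    ∃ _ : Algebra k (FractionRing (R ⧸ P)), Algebra.trdeg k (FractionRing (R ⧸ P)) ≤ d := by
  obtain ⟨_, ⟨U, hU, rfl⟩, hxU, -⟩ :=
    X.isBasis_affineOpens.exists_subset_of_mem_open (Set.mem_univ x) isOpen_univ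
  have hU : IsAffineOpen U := hU
  let pU := hU.primeIdealOf ⟨x, hxU⟩
  obtain ⟨φ, hφ⟩ : ∃ φ : CommRingCat.of k ⟶ Γ(X, U), Spec.map φ = hU.fromSpec ≫ q := Spec.map_surjective _
  letI := φ.hom.toAlgebra
  haveI : Algebra.FiniteType k Γ(X, U) := RingHom.finiteType_algebraMap.mp
    ((HasRingHomProperty.Spec_iff (P := @LocallyOfFiniteType)).mp
      (hφ ▸ (inferInstance : LocallyOfFiniteType (hU.fromSpec ≫ q))))
  haveI : pU.asIdeal.IsMaximal := (PrimeSpectrum.isClosed_singleton_iff_isMaximal pU).1 (by
    have hx' : hU.fromSpec.base pU = x := hU.fromSpec_primeIdealOf ⟨x, hxU⟩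
    have : ({pU} : Set _) = hU.fromSpec.base ⁻¹' {x} := by
      ext z
      exact ⟨fun h => by rw [Set.mem_singleton_iff.1 h]; exact hx', fun h =>
        hU.fromSpec.isOpenEmbedding.injective (h.trans hx'.symm)⟩
    rw [this]
    exact hx.preimage hU.fromSpec.continuous)
  letI := X.presheaf.algebra_section_stalk ⟨x, hxU⟩
  haveI := hU.isLocalization_stalk ⟨x, hxU⟩
  letI : Algebra Γ(X, U) R := ((algebraMap (X.presheaf.stalk x) R).comp (algebraMap Γ(X, U) (X.presheaf.stalk x))).toAlgebra
  haveI : IsScalarTower Γ(X, U) (X.presheaf.stalk x) R := IsScalarTower.of_algebraMap_eq fun _ => rfl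
  letI : Algebra k R := ((algebraMap Γ(X, U) R).comp φ.hom).toAlgebra
  haveI : IsScalarTower k Γ(X, U) R := IsScalarTower.of_algebraMap_eq fun _ => rfl
  exact ⟨inferInstance, trdeg_le k pU.asIdeal (X.presheaf.stalk x) R d hd P⟩

/-- The fields of the strictly local rings of algebraic schemes. -/
theorem cohDimLEAt_frac {l : ℕ} (hFB : FieldBound.{u} l) (k : Type u) [Field k] {X : Scheme.{u}}
    (f : X ⟶ Spec (CommRingCat.of k)) [LocallyOfFiniteType f] [QuasiCompact f] (y : X)
    (R : Type u) [CommRing R] [IsLocalRing R] [Algebra (X.presheaf.stalk y) R]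
    [IsLocalHom (algebraMap (X.presheaf.stalk y) R)] [Hensel.IsStrictHenselization (X.presheaf.stalk y) R]
    (d : ℕ) (hd : ringKrullDim R ≤ d) (P : Ideal R) [P.IsPrime] :
    Dix.CohDimLEAt (Spec (CommRingCat.of (FractionRing (R ⧸ P)))) l d := by
  obtain ⟨k', _, _, X', f', _, _, x', hcl, algX, hlX, shX⟩ := Groth.Agent.S8539.result k f y R
  obtain ⟨_, ht⟩ := @trdeg_le_of_isClosed k' _ X' f' ‹_› x' hcl R _ _ algX hlX shX d hd P _
  exact hFB k' _ d ht

end EtCdLocalLib
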